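import Cfsg.Agent.Lib.Helper37.Out.Tab

set_option autoImplicit false
set_option maxRecDepth 100000

namespace Cfsg.Agent.Lib.Helper37.Out

open Cfsg.Agent.Lib.Helper37.J3 Cfsg.Agent.Lib.Helper37.Inv

theorem cPA_0 : allFrom chkPA 0 81 = true := by decide +kernel
theorem cPA_81 : allFrom chkPA 81 81 = true := by decide +kernel
theorem cPA_162 : allFrom chkPA 162 81 = true := by decide +kernel
theorem cPS_0 : allFrom (all2 chkPS 3) 0 81 = true := by decide +kernel
theorem cPS_81 : allFrom (all2 chkPS 3) 81 81 = true := by decide +kernel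
theorem cPS_162 : allFrom (all2 chkPS 3) 162 81 = true := by decide +kernel
theorem cP3_0 : allFrom chkP3 0 81 = true := by decide +kernel
theorem cP3_81 : allFrom chkP3 81 81 = true := by decide +kernel
theorem cP3_162 : allFrom chkP3 162 81 = true := by decide +kernel
theorem cRP_0 : allFrom chkRP 0 37 = true := by decide +kernel
theorem cRP_37 : allFrom chkRP 37 37 = true := by decide +kernel
theorem cRP_74 : allFrom chkRP 74 37 = true := by decide +kernel

theorem rep0_a : M9.beq (XC (repI 0)) Acode = true := by decide +kernel
theorem pk0_id : M9.beq (PB 77) ID = true := by decide +kernel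
theorem ab17 : M9.beq (pow17 (mm Acode Bcode)) ID = true := by decide +kernel
theorem w19 : M9.beq (pow19 (w3c Acode)) ID = true := by decide +kernel
theorem b_ne : scalEq ID Bcode = false := by decide +kernel
theorem b_cube : M9.beq (mm Bcode (mm Bcode Bcode)) ID = true := by decide +kernel
theorem pm_inv1 : M9.beq (mm PMc PMi) ID = true := by decide +kernel
theorem pm_inv2 : M9.beq (mm PMi PMc) ID = true := by decide +kernel
theorem pm_a : M9.beq (mm PMc (frC Acode)) (mm (XC (repI 8)) PMc) = true := by decide +kernel
theorem pm_b : M9.beq (mm PMc (frC Bcode)) (mm (mm (mm OMcode OMcode) Bcode) PMc) = true := by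
  decide +kernel
theorem pm_z : M9.beq (mm PMc (frC OMcode)) (mm (mm OMcode OMcode) PMc) = true := by decide +kernel
theorem zcomm : M9.beq (mm (PB 1) Bcode) (mm (mm OMcode Bcode) (PB 1)) = true := by decide +kernel
theorem om_ne : Nat.beq (keyM (mm OMcode OMcode)) (keyM OMcode) = false := by decide +kernel
theorem r2_lt : Nat.blt (repI 8) 26163 = true := by decide +kernel

end Cfsg.Agent.Lib.Helper37.Out
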