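import Cfsg.Agent.Lib.Helper37.Out.Tab

set_option autoImplicit false
set_option maxRecDepth 100000

namespace Cfsg.Agent.Lib.Helper37.Out

open Cfsg.Agent.Lib.Helper37.J3 Cfsg.Agent.Lib.Helper37.Inv

theorem co_0 : allFrom chkOR 0 500 = true := by decide +kernel
theorem co_500 : allFrom chkOR 500 500 = true := by decide +kernel
theorem co_1000 : allFrom chkOR 1000 500 = true := by decide +kernel
theorem co_1500 : allFrom chkOR 1500 500 = true := by decide +kernel
theorem co_2000 : allFrom chkOR 2000 500 = true := by decide +kernel
theorem co_2500 : allFrom chkOR 2500 500 = true := by decide +kernel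
theorem co_3000 : allFrom chkOR 3000 500 = true := by decide +kernel
theorem co_3500 : allFrom chkOR 3500 500 = true := by decide +kernel
theorem co_4000 : allFrom chkOR 4000 500 = true := by decide +kernel
theorem co_4500 : allFrom chkOR 4500 500 = true := by decide +kernel
theorem co_5000 : allFrom chkOR 5000 500 = true := by decide +kernel
theorem co_5500 : allFrom chkOR 5500 500 = true := by decide +kernel
theorem co_6000 : allFrom chkOR 6000 500 = true := by decide +kernel
theorem co_6500 : allFrom chkOR 6500 500 = true := by decide +kernel

end Cfsg.Agent.Lib.Helper37.Out
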