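import Cfsg.Agent.Lib.Helper37.Out.Tab

set_option autoImplicit false
set_option maxRecDepth 100000

namespace Cfsg.Agent.Lib.Helper37.Out

open Cfsg.Agent.Lib.Helper37.J3 Cfsg.Agent.Lib.Helper37.Inv

theorem co_7000 : allFrom chkOR 7000 500 = true := by decide +kernel
theorem co_7500 : allFrom chkOR 7500 500 = true := by decide +kernel
theorem co_8000 : allFrom chkOR 8000 500 = true := by decide +kernel
theorem co_8500 : allFrom chkOR 8500 500 = true := by decide +kernel
theorem co_9000 : allFrom chkOR 9000 500 = true := by decide +kernel
theorem co_9500 : allFrom chkOR 9500 500 = true := by decide +kernel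
theorem co_10000 : allFrom chkOR 10000 500 = true := by decide +kernel
theorem co_10500 : allFrom chkOR 10500 500 = true := by decide +kernel
theorem co_11000 : allFrom chkOR 11000 500 = true := by decide +kernel
theorem co_11500 : allFrom chkOR 11500 500 = true := by decide +kernel
theorem co_12000 : allFrom chkOR 12000 500 = true := by decide +kernel
theorem co_12500 : allFrom chkOR 12500 500 = true := by decide +kernel
theorem co_13000 : allFrom chkOR 13000 500 = true := by decide +kernel
theorem co_13500 : allFrom chkOR 13500 500 = true := by decide +kernel

end Cfsg.Agent.Lib.Helper37.Out
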