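import Cfsg.Agent.Lib.Helper37.Out.Tab

set_option autoImplicit false
set_option maxRecDepth 100000

namespace Cfsg.Agent.Lib.Helper37.Out

open Cfsg.Agent.Lib.Helper37.J3 Cfsg.Agent.Lib.Helper37.Inv

theorem co_14000 : allFrom chkOR 14000 500 = true := by decide +kernel
theorem co_14500 : allFrom chkOR 14500 500 = true := by decide +kernel
theorem co_15000 : allFrom chkOR 15000 500 = true := by decide +kernel
theorem co_15500 : allFrom chkOR 15500 500 = true := by decide +kernel
theorem co_16000 : allFrom chkOR 16000 500 = true := by decide +kernel
theorem co_16500 : allFrom chkOR 16500 500 = true := by decide +kernel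
theorem co_17000 : allFrom chkOR 17000 500 = true := by decide +kernel
theorem co_17500 : allFrom chkOR 17500 500 = true := by decide +kernel
theorem co_18000 : allFrom chkOR 18000 500 = true := by decide +kernel
theorem co_18500 : allFrom chkOR 18500 500 = true := by decide +kernel
theorem co_19000 : allFrom chkOR 19000 500 = true := by decide +kernel
theorem co_19500 : allFrom chkOR 19500 500 = true := by decide +kernel
theorem co_20000 : allFrom chkOR 20000 500 = true := by decide +kernel
theorem co_20500 : allFrom chkOR 20500 500 = true := by decide +kernel

end Cfsg.Agent.Lib.Helper37.Out
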