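import Cfsg.Agent.Lib.Helper37.Out.Tab

set_option autoImplicit false
set_option maxRecDepth 100000

namespace Cfsg.Agent.Lib.Helper37.Out

open Cfsg.Agent.Lib.Helper37.J3 Cfsg.Agent.Lib.Helper37.Inv

theorem co_21000 : allFrom chkOR 21000 500 = true := by decide +kernel
theorem co_21500 : allFrom chkOR 21500 500 = true := by decide +kernel
theorem co_22000 : allFrom chkOR 22000 500 = true := by decide +kernel
theorem co_22500 : allFrom chkOR 22500 500 = true := by decide +kernel
theorem co_23000 : allFrom chkOR 23000 500 = true := by decide +kernel
theorem co_23500 : allFrom chkOR 23500 500 = true := by decide +kernel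
theorem co_24000 : allFrom chkOR 24000 500 = true := by decide +kernel
theorem co_24500 : allFrom chkOR 24500 500 = true := by decide +kernel
theorem co_25000 : allFrom chkOR 25000 500 = true := by decide +kernel
theorem co_25500 : allFrom chkOR 25500 500 = true := by decide +kernel
theorem co_26000 : allFrom chkOR 26000 163 = true := by decide +kernel

end Cfsg.Agent.Lib.Helper37.Out
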