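import Cfsg.Agent.Lib.Helper37.Inv.Main
import Cfsg.Agent.Lib.Helper37.Out.C0
import Cfsg.Agent.Lib.Helper37.Out.OR0
import Cfsg.Agent.Lib.Helper37.Out.OR1
import Cfsg.Agent.Lib.Helper37.Out.OR2
import Cfsg.Agent.Lib.Helper37.Out.OR3
import Cfsg.Agent.Lib.Helper88.J3OSYL
import Cfsg.Agent.Lib.Helper88.J3OGEN
import Cfsg.Agent.Lib.Helper5.J3OALL
import Cfsg.Agent.Lib.Helper5.J3ORES
import Cfsg.Agent.Lib.Helper17.J3ORIG
import Cfsg.Agent.Lib.Helper86.J3OOUT
import Cfsg.Agent.Lib.Helper65.J3OCHASE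
import Cfsg.Agent.Lib.Helper85.J3OFR

/-!
`|Out(J₃)| = 2`: the rigidity data for the generating pair `(t, b)` read off from the kernel-checked
certificates (the Sylow 3-subgroup `C(b)`, its orbits on the involutions), and the
Frobenius-semilinear automorphism of `3·J₃` that inverts the centre.
-/

set_option autoImplicit false

namespace Cfsg.Agent.Lib.Helper37.Out

open Cfsg.Spor Subgroup Cfsg.Agent.Lib.Helper37.J3 Cfsg.Agent.Lib.Helper37.Inv

theorem chkOR_all : ∀ i < 26163, chkOR i = true := by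
  intro i hi
  by_cases h0 : i < 500
  · exact allFrom_sound _ _ _ co_0 i (by omega) (by omega)
  by_cases h500 : i < 1000
  · exact allFrom_sound _ _ _ co_500 i (by omega) (by omega)
  by_cases h1000 : i < 1500
  · exact allFrom_sound _ _ _ co_1000 i (by omega) (by omega)
  by_cases h1500 : i < 2000
  · exact allFrom_sound _ _ _ co_1500 i (by omega) (by omega)
  by_cases h2000 : i < 2500
  · exact allFrom_sound _ _ _ co_2000 i (by omega) (by omega)
  by_cases h2500 : i < 3000
  · exact allFrom_sound _ _ _ co_2500 i (by omega) (by omega)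
  by_cases h3000 : i < 3500
  · exact allFrom_sound _ _ _ co_3000 i (by omega) (by omega)
  by_cases h3500 : i < 4000
  · exact allFrom_sound _ _ _ co_3500 i (by omega) (by omega)
  by_cases h4000 : i < 4500
  · exact allFrom_sound _ _ _ co_4000 i (by omega) (by omega)
  by_cases h4500 : i < 5000
  · exact allFrom_sound _ _ _ co_4500 i (by omega) (by omega)
  by_cases h5000 : i < 5500
  · exact allFrom_sound _ _ _ co_5000 i (by omega) (by omega)
  by_cases h5500 : i < 6000
  · exact allFrom_sound _ _ _ co_5500 i (by omega) (by omega)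
  by_cases h6000 : i < 6500
  · exact allFrom_sound _ _ _ co_6000 i (by omega) (by omega)
  by_cases h6500 : i < 7000
  · exact allFrom_sound _ _ _ co_6500 i (by omega) (by omega)
  by_cases h7000 : i < 7500
  · exact allFrom_sound _ _ _ co_7000 i (by omega) (by omega)
  by_cases h7500 : i < 8000
  · exact allFrom_sound _ _ _ co_7500 i (by omega) (by omega)
  by_cases h8000 : i < 8500
  · exact allFrom_sound _ _ _ co_8000 i (by omega) (by omega)
  by_cases h8500 : i < 9000
  · exact allFrom_sound _ _ _ co_8500 i (by omega) (by omega)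
  by_cases h9000 : i < 9500
  · exact allFrom_sound _ _ _ co_9000 i (by omega) (by omega)
  by_cases h9500 : i < 10000
  · exact allFrom_sound _ _ _ co_9500 i (by omega) (by omega)
  by_cases h10000 : i < 10500
  · exact allFrom_sound _ _ _ co_10000 i (by omega) (by omega)
  by_cases h10500 : i < 11000
  · exact allFrom_sound _ _ _ co_10500 i (by omega) (by omega)
  by_cases h11000 : i < 11500
  · exact allFrom_sound _ _ _ co_11000 i (by omega) (by omega)
  by_cases h11500 : i < 12000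
  · exact allFrom_sound _ _ _ co_11500 i (by omega) (by omega)
  by_cases h12000 : i < 12500
  · exact allFrom_sound _ _ _ co_12000 i (by omega) (by omega)
  by_cases h12500 : i < 13000
  · exact allFrom_sound _ _ _ co_12500 i (by omega) (by omega)
  by_cases h13000 : i < 13500
  · exact allFrom_sound _ _ _ co_13000 i (by omega) (by omega)
  by_cases h13500 : i < 14000
  · exact allFrom_sound _ _ _ co_13500 i (by omega) (by omega)
  by_cases h14000 : i < 14500
  · exact allFrom_sound _ _ _ co_14000 i (by omega) (by omega)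
  by_cases h14500 : i < 15000
  · exact allFrom_sound _ _ _ co_14500 i (by omega) (by omega)
  by_cases h15000 : i < 15500
  · exact allFrom_sound _ _ _ co_15000 i (by omega) (by omega)
  by_cases h15500 : i < 16000
  · exact allFrom_sound _ _ _ co_15500 i (by omega) (by omega)
  by_cases h16000 : i < 16500
  · exact allFrom_sound _ _ _ co_16000 i (by omega) (by omega)
  by_cases h16500 : i < 17000
  · exact allFrom_sound _ _ _ co_16500 i (by omega) (by omega)
  by_cases h17000 : i < 17500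
  · exact allFrom_sound _ _ _ co_17000 i (by omega) (by omega)
  by_cases h17500 : i < 18000
  · exact allFrom_sound _ _ _ co_17500 i (by omega) (by omega)
  by_cases h18000 : i < 18500
  · exact allFrom_sound _ _ _ co_18000 i (by omega) (by omega)
  by_cases h18500 : i < 19000
  · exact allFrom_sound _ _ _ co_18500 i (by omega) (by omega)
  by_cases h19000 : i < 19500
  · exact allFrom_sound _ _ _ co_19000 i (by omega) (by omega)
  by_cases h19500 : i < 20000
  · exact allFrom_sound _ _ _ co_19500 i (by omega) (by omega)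
  by_cases h20000 : i < 20500
  · exact allFrom_sound _ _ _ co_20000 i (by omega) (by omega)
  by_cases h20500 : i < 21000
  · exact allFrom_sound _ _ _ co_20500 i (by omega) (by omega)
  by_cases h21000 : i < 21500
  · exact allFrom_sound _ _ _ co_21000 i (by omega) (by omega)
  by_cases h21500 : i < 22000
  · exact allFrom_sound _ _ _ co_21500 i (by omega) (by omega)
  by_cases h22000 : i < 22500
  · exact allFrom_sound _ _ _ co_22000 i (by omega) (by omega)
  by_cases h22500 : i < 23000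
  · exact allFrom_sound _ _ _ co_22500 i (by omega) (by omega)
  by_cases h23000 : i < 23500
  · exact allFrom_sound _ _ _ co_23000 i (by omega) (by omega)
  by_cases h23500 : i < 24000
  · exact allFrom_sound _ _ _ co_23500 i (by omega) (by omega)
  by_cases h24000 : i < 24500
  · exact allFrom_sound _ _ _ co_24000 i (by omega) (by omega)
  by_cases h24500 : i < 25000
  · exact allFrom_sound _ _ _ co_24500 i (by omega) (by omega)
  by_cases h25000 : i < 25500
  · exact allFrom_sound _ _ _ co_25000 i (by omega) (by omega)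
  by_cases h25500 : i < 26000
  · exact allFrom_sound _ _ _ co_25500 i (by omega) (by omega)
  exact allFrom_sound _ _ _ co_26000 i (by omega) (by omega)

theorem PA_all : ∀ k < 243, chkPA k = true := by
  intro k hk
  by_cases h1 : k < 81
  · exact allFrom_sound _ _ _ cPA_0 k (by omega) (by omega)
  by_cases h2 : k < 162
  · exact allFrom_sound _ _ _ cPA_81 k (by omega) (by omega)
  exact allFrom_sound _ _ _ cPA_162 k (by omega) (by omega)

theorem PS_all : ∀ k < 243, ∀ j < 3, chkPS k j = true := by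
  intro k hk j hj
  by_cases h1 : k < 81
  · exact all2_sound _ _ _ _ cPS_0 k (by omega) (by omega) j hj
  by_cases h2 : k < 162
  · exact all2_sound _ _ _ _ cPS_81 k (by omega) (by omega) j hj
  exact all2_sound _ _ _ _ cPS_162 k (by omega) (by omega) j hj

theorem P3_all : ∀ k < 243, chkP3 k = true := by
  intro k hk
  by_cases h1 : k < 81
  · exact allFrom_sound _ _ _ cP3_0 k (by omega) (by omega)
  by_cases h2 : k < 162
  · exact allFrom_sound _ _ _ cP3_81 k (by omega) (by omega)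
  exact allFrom_sound _ _ _ cP3_162 k (by omega) (by omega)

theorem RP_all : ∀ m < 111, chkRP m = true := by
  intro k hk
  by_cases h1 : k < 37
  · exact allFrom_sound _ _ _ cRP_0 k (by omega) (by omega)
  by_cases h2 : k < 74
  · exact allFrom_sound _ _ _ cRP_37 k (by omega) (by omega)
  exact allFrom_sound _ _ _ cRP_74 k (by omega) (by omega)

/-- the unpacked content of `chkPA` -/
theorem PA_spec (k : ℕ) (hk : k < 243) :
    sftOK (PB k) (psf k) = true ∧ mm (PB k) Acode = mm (XC (psg k)) (PB k) ∧ psg k < 26163 ∧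
    (k + 1 < 243 → psg k < psg (k + 1)) ∧
    mm (PB k) Bcode = scM (pcs k) (apB (PB k)) ∧ 0 < pcs k ∧
    (PB k = ID ∨ (ppar k < 243 ∧ pdep (ppar k) < pdep k ∧ pgen k < 3 ∧
      PB k = mm (PB (ppar k)) (PB (gidx (pgen k))))) := by
  have hc := PA_all k hk
  unfold chkPA at hc
  simp only [Bool.and_eq_true] at hc
  obtain ⟨⟨⟨⟨⟨⟨h1, h2⟩, h3⟩, h4⟩, h5⟩, h6⟩, h7⟩ := hc
  refine ⟨h1, M9.eq_of_beq h2, blt_true h3, ?_, M9.eq_of_beq h5, blt_true h6, ?_⟩
  · intro hlt
    have hb : Nat.blt (Nat.succ k) 243 = true := by simpa [Nat.blt] using hlt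
    rw [hb, cond_true] at h4
    exact blt_true h4
  · rcases Bool.eq_false_or_eq_true (Nat.beq (pdep k) 0) with hb | hb
    · rw [hb, cond_true] at h7
      exact Or.inl (M9.eq_of_beq h7)
    · rw [hb, cond_false] at h7
      simp only [Bool.and_eq_true] at h7
      obtain ⟨⟨⟨g1, g2⟩, g3⟩, g4⟩ := h7
      exact Or.inr ⟨blt_true g1, blt_true g2, blt_true g3, M9.eq_of_beq g4⟩

theorem psg_mono : ∀ j, ∀ i, i < j → j < 243 → psg i < psg j := by
  intro j
  induction j with
  | zero => intro i hi; omega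
  | succ j ih =>
    intro i hij hj
    have hstep : psg j < psg (j + 1) := (PA_spec j (by omega)).2.2.2.1 hj
    rcases Nat.eq_or_lt_of_le (Nat.lt_succ_iff.mp hij) with rfl | hlt
    · exact hstep
    · exact lt_trans (ih i hlt (by omega)) hstep

theorem gidx_lt (j : ℕ) : gidx j < 243 := by
  unfold gidx
  rcases Bool.eq_false_or_eq_true (Nat.beq j 0) with hb | hb
  · rw [hb, cond_true]; norm_num
  · rw [hb, cond_false]
    rcases Bool.eq_false_or_eq_true (Nat.beq j 1) with hb' | hb'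
    · rw [hb', cond_true]; norm_num
    · rw [hb', cond_false]; norm_num

theorem pow17_eq {G : Type*} [Group G] (y : G) :
    y ^ 17 = ((((y * y) * (y * y)) * ((y * y) * (y * y))) *
      (((y * y) * (y * y)) * ((y * y) * (y * y)))) * y := by
  simp only [pow_succ, pow_zero, one_mul, mul_assoc]

theorem pow19_eq {G : Type*} [Group G] (y : G) :
    y ^ 19 = ((((y * y) * (y * y)) * ((y * y) * (y * y))) *
      (((y * y) * (y * y)) * ((y * y) * (y * y)))) * ((y * y) * y) := by
  simp only [pow_succ, pow_zero, one_mul, mul_assoc]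

section

variable {F : Type*} [Field F] {ω : F} (h2 : (2 : F) = 0) (hω : ω * ω = ω + 1)

theorem scM_one (M : M9) : scM 1 M = M := by
  cases M; rfl

include h2 hω in
/-- the central elements of `3·J₃` as scalars -/
theorem scal_rep (c : ℕ) (hc0 : 0 < c) (hc : c < 4) :
    ∃ z : threeJ3 F ω, z ∈ center (threeJ3 F ω) ∧
      ((z : GL F9 F) : Matrix F9 F9 F) = cF ω c • (1 : Matrix F9 F9 F) := by
  have hz : ((zetaG h2 hω : GL F9 F) : Matrix F9 F9 F) = ω • (1 : Matrix F9 F9 F) :=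
    zetaG_val h2 hω
  interval_cases c
  · refine ⟨1, Subgroup.one_mem _, ?_⟩
    rw [cF_one, one_smul]; rfl
  · refine ⟨⟨zetaG h2 hω, zetaG_mem h2 hω⟩, (center_iff h2 hω _).mpr ⟨ω, hz⟩, ?_⟩
    rw [cF_two]; exact hz
  · have hzz : (((⟨zetaG h2 hω, zetaG_mem h2 hω⟩ * ⟨zetaG h2 hω, zetaG_mem h2 hω⟩ :
        threeJ3 F ω) : GL F9 F) : Matrix F9 F9 F) = (1 + ω) • (1 : Matrix F9 F9 F) := by
      show ((zetaG h2 hω : GL F9 F) : Matrix F9 F9 F) * ((zetaG h2 hω : GL F9 F) : Matrix F9 F9 F)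
        = _
      rw [hz, Matrix.mul_smul, Matrix.smul_mul, mul_one, smul_smul, hω, add_comm]
    refine ⟨_, (center_iff h2 hω _).mpr ⟨1 + ω, hzz⟩, ?_⟩
    rw [cF_three]; exact hzz

include h2 hω in
theorem RepJ.smul {x : J3 F ω} {M : M9} (hx : RepJ ω x M) (c : ℕ) (hc0 : 0 < c) (hc : c < 4) :
    RepJ ω x (scM c M) := by
  obtain ⟨g, hg, rfl⟩ := hx
  obtain ⟨z, hz, hzv⟩ := scal_rep (F := F) (ω := ω) h2 hω c hc0 hc
  refine ⟨z * g, ?_, ?_⟩
  · show ((z : GL F9 F) : Matrix F9 F9 F) * ((g : GL F9 F) : Matrix F9 F9 F) = _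
    unfold J3.Rep at hg
    rw [hzv, hg, dM_scM h2 hω c hc, Matrix.smul_mul, one_mul]
  · rw [QuotientGroup.mk_mul, (QuotientGroup.eq_one_iff z).mpr hz, one_mul]

/-- the image of `b` in `J₃` -/
noncomputable def bJ : J3 F ω := QuotientGroup.mk ⟨bG h2 hω, bG_mem h2 hω⟩

theorem bJ_rep : RepJ ω (bJ h2 hω) Bcode := ⟨_, bG_rep h2 hω, rfl⟩

include h2 hω in
theorem RepJ.sq {y : J3 F ω} {M : M9} (hy : RepJ ω y M) : RepJ ω (y * y) (Out.sq M) :=
  RepJ.mul h2 hω hy hy

include h2 hω in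
theorem RepJ.pow17 {y : J3 F ω} {M : M9} (hy : RepJ ω y M) : RepJ ω (y ^ 17) (Out.pow17 M) := by
  rw [pow17_eq]
  exact RepJ.mul h2 hω (RepJ.sq h2 hω (RepJ.sq h2 hω (RepJ.sq h2 hω (RepJ.sq h2 hω hy)))) hy

include h2 hω in
theorem RepJ.pow19 {y : J3 F ω} {M : M9} (hy : RepJ ω y M) : RepJ ω (y ^ 19) (Out.pow19 M) := by
  rw [pow19_eq]
  exact RepJ.mul h2 hω (RepJ.sq h2 hω (RepJ.sq h2 hω (RepJ.sq h2 hω (RepJ.sq h2 hω hy))))
    (RepJ.mul h2 hω (RepJ.sq h2 hω hy) hy)

theorem bJ_inv : (bJ h2 hω)⁻¹ = bJ h2 hω * bJ h2 hω := by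
  have hb := bJ_rep h2 hω
  have e : bJ h2 hω * (bJ h2 hω * bJ h2 hω) = 1 :=
    RepJ.eq (RepJ.congr (RepJ.mul h2 hω hb (RepJ.mul h2 hω hb hb)) (M9.eq_of_beq b_cube))
      RepJ.one
  exact inv_eq_of_mul_eq_one_right e

theorem RepJ.w3 {x : J3 F ω} {X : M9} (hx : RepJ ω x X) :
    RepJ ω (x * bJ h2 hω * x * bJ h2 hω * x * (bJ h2 hω)⁻¹) (w3c X) := by
  have hb := bJ_rep h2 hω
  have e : x * bJ h2 hω * x * bJ h2 hω * x * (bJ h2 hω)⁻¹ =
      ((x * bJ h2 hω) * (x * bJ h2 hω)) * (x * (bJ h2 hω * bJ h2 hω)) := by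
    rw [bJ_inv h2 hω]; simp only [mul_assoc]
  rw [e]
  exact RepJ.mul h2 hω (RepJ.mul h2 hω (RepJ.mul h2 hω hx hb) (RepJ.mul h2 hω hx hb))
    (RepJ.mul h2 hω hx (RepJ.mul h2 hω hb hb))

include h2 hω in
theorem exists_p : ∃ p : ℕ → J3 F ω, ∀ k < 243, RepJ ω (p k) (PB k) := by
  have h : ∀ k, ∃ x : J3 F ω, k < 243 → RepJ ω x (PB k) := by
    intro k
    by_cases hk : k < 243
    · obtain ⟨x, hx⟩ := RepJ.of_sift (F := F) (ω := ω) h2 hω _ _ (PA_spec k hk).1
      exact ⟨x, fun _ => hx⟩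
    · exact ⟨1, fun h => absurd h hk⟩
  choose p hp using h
  exact ⟨p, hp⟩

theorem bJ_order (hF4 : ∀ c : F, c = 0 ∨ c = 1 ∨ c = ω ∨ c = ω + 1) :
    orderOf (bJ h2 hω) = 3 := by
  have hb := bJ_rep h2 hω
  haveI : Fact (Nat.Prime 3) := ⟨Nat.prime_three⟩
  apply orderOf_eq_prime
  · have e : bJ h2 hω ^ 3 = bJ h2 hω * (bJ h2 hω * bJ h2 hω) := by
      simp only [pow_succ, pow_zero, one_mul, mul_assoc]
    rw [e]
    exact RepJ.eq (RepJ.congr (RepJ.mul h2 hω hb (RepJ.mul h2 hω hb hb)) (M9.eq_of_beq b_cube))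
      RepJ.one
  · intro h1
    have hs := RepJ.scal h2 hω hF4 (RepJ.one (F := F) (ω := ω)) (h1 ▸ hb)
    rw [b_ne] at hs
    exact Bool.false_ne_true hs

theorem gen_J (hF4 : ∀ c : F, c = 0 ∨ c = 1 ∨ c = ω ∨ c = ω + 1) :
    Subgroup.closure ({tJ h2 hω, bJ h2 hω} : Set (J3 F ω)) = ⊤ := by
  have hgen := closure_top_of_eq (threeJ3 F ω) (aG h2 hω) (bG h2 hω) (threeJ3_eq h2 hω)
    (aG_mem h2 hω) (bG_mem h2 hω)
  have h := Subgroup.map_top_of_surjective (QuotientGroup.mk' (center (threeJ3 F ω)))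
    (QuotientGroup.mk'_surjective _)
  rw [← hgen, MonoidHom.map_closure] at h
  rw [← h]
  congr 1
  rw [Set.image_pair]
  rfl

/-- the rigidity data of the pair `(t, b)` -/
theorem out_data (hF4 : ∀ c : F, c = 0 ∨ c = 1 ∨ c = ω ∨ c = ω + 1) :
    ∃ (x p : ℕ → J3 F ω) (S : Subgroup (J3 F ω)),
      (∀ g, g ∈ S ↔ ∃ k < 243, p k = g) ∧ Nat.card S = 243 ∧
      (∀ y : J3 F ω, orderOf y = 2 → ∃ i < 26163, x i = y) ∧
      (∀ i < 26163, orderOf (x i) = 2) ∧
      (∀ k < 243, p k * bJ h2 hω = bJ h2 hω * p k) ∧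
      (∀ k < 243, orderOf (p k) = 3 →
        IsConj (p k) (bJ h2 hω) ∨ ∃ i < 26163, p k * x i = x i * p k) ∧
      (∀ i < 26163, ∃ k < 243, ∃ m < 111, p k * x i * (p k)⁻¹ = x (repI m)) ∧
      (∀ m < 111, x (repI m) * bJ h2 hω ≠ bJ h2 hω * x (repI m)) ∧
      (∀ m < 111, (x (repI m) * bJ h2 hω) ^ 17 = 1 →
        (x (repI m) * bJ h2 hω * x (repI m) * bJ h2 hω * x (repI m) * (bJ h2 hω)⁻¹) ^ 19 = 1 →
        x (repI m) = tJ h2 hω ∨ x (repI m) = x (repI 8)) ∧
      (tJ h2 hω * bJ h2 hω) ^ 17 = 1 ∧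
      (tJ h2 hω * bJ h2 hω * tJ h2 hω * bJ h2 hω * tJ h2 hω * (bJ h2 hω)⁻¹) ^ 19 = 1 := by
  have hJ := card_J3 h2 hω hF4
  have : Finite (J3 F ω) := Nat.finite_of_card_ne_zero (by rw [hJ]; norm_num)
  obtain ⟨x, hxR, hxc, hxinj⟩ := class_data2 h2 hω hF4
  obtain ⟨hC, hconj⟩ := cent_facts h2 hω hF4
  obtain ⟨p, hp⟩ := exists_p (F := F) (ω := ω) h2 hω
  have ht := tJ_rep h2 hω
  have hb := bJ_rep h2 hω
  have hrep : ∀ m < 111, repI m < 26163 := by
    intro m hm
    have hc := RP_all m hm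
    unfold chkRP at hc
    simp only [Bool.and_eq_true] at hc
    exact blt_true hc.1.1
  -- conjugation of t by p k
  have hpt : ∀ k < 243, p k * tJ h2 hω = x (psg k) * p k := by
    intro k hk
    obtain ⟨-, e, hlt, -⟩ := PA_spec k hk
    exact RepJ.eq (RepJ.congr (RepJ.mul h2 hω (hp k hk) ht) e)
      (RepJ.mul h2 hω (hxR _ hlt) (hp k hk))
  have hpinj : ∀ i < 243, ∀ j < 243, p i = p j → i = j := by
    intro i hi j hj hij
    have e1 := hpt i hi
    have e2 := hpt j hj
    rw [hij] at e1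
    have e3 : x (psg i) = x (psg j) := mul_right_cancel (e1.symm.trans e2)
    have e4 := hxinj _ (PA_spec i hi).2.2.1 _ (PA_spec j hj).2.2.1 e3
    by_contra hne
    rcases Nat.lt_or_gt_of_ne hne with hlt | hgt
    · exact absurd e4 (Nat.ne_of_lt (psg_mono j i hlt hj))
    · exact absurd e4.symm (Nat.ne_of_lt (psg_mono i j hgt hi))
  have hp0 : p 77 = 1 :=
    RepJ.eq (RepJ.congr (hp 77 (by norm_num)) (M9.eq_of_beq pk0_id)) RepJ.one
  -- the subgroup
  obtain ⟨S, hS, hScard⟩ := Cfsg.Agent.Lib.Helper88.J3OGEN.exists_subgroup_of_gen_table 243 3 p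
    (fun j => p (gidx j)) pdep
    (by
      intro k hk j hj
      have hc := PS_all k hk j hj
      unfold chkPS at hc
      simp only [Bool.and_eq_true] at hc
      obtain ⟨⟨⟨c1, c2⟩, c3⟩, c4⟩ := hc
      exact ⟨nxk k j, blt_true c2,
        RepJ.eq (RepJ.congr (RepJ.mul h2 hω (hp k hk) (hp _ (gidx_lt j))) (M9.eq_of_beq c1))
          (RepJ.smul h2 hω (hp _ (blt_true c2)) _ (blt_true c3) (blt_true c4))⟩)
    (by
      intro k hk
      obtain ⟨-, -, -, -, -, -, h7⟩ := PA_spec k hk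
      rcases h7 with h7 | ⟨g1, g2, g3, g4⟩
      · exact Or.inl (RepJ.eq (RepJ.congr (hp k hk) h7) RepJ.one)
      · exact Or.inr ⟨ppar k, g1, g2, pgen k, g3,
          RepJ.eq (RepJ.congr (hp k hk) g4) (RepJ.mul h2 hω (hp _ g1) (hp _ (gidx_lt _)))⟩)
    ⟨77, by norm_num, hp0⟩ hpinj
  have hx2 : ∀ i < 26163, orderOf (x i) = 2 := by
    intro i hi
    obtain ⟨c, hc⟩ := isConj_iff.mp (hxc i hi)
    have e : x i = MulAut.conj c (tJ h2 hω) := by rw [MulAut.conj_apply, hc]
    rw [e, MulEquiv.orderOf_eq]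
    exact tJ_order h2 hω hF4
  have hall := Cfsg.Agent.Lib.Helper5.J3OALL.class_enum (tJ h2 hω) 26163 x hxc hxinj
    (by rw [hC, hJ])
  refine ⟨x, p, S, hS, hScard, fun y hy => hall y (hconj y hy), hx2, ?_, ?_, ?_, ?_, ?_, ?_, ?_⟩
  · -- p k commutes with b
    intro k hk
    obtain ⟨-, -, -, -, e, hc0, -⟩ := PA_spec k hk
    have hc4 : pcs k < 4 := by
      have : pcs k ≤ 3 := Nat.and_le_right
      omega
    exact RepJ.eq (RepJ.congr (RepJ.mul h2 hω (hp k hk) hb) e)
      (RepJ.smul h2 hω (RepJ.congr (RepJ.mul h2 hω hb (hp k hk)) (apB_eq _)) _ hc0 hc4)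
  · -- elements of order three
    intro k hk hord
    have hcube : p k * (p k * p k) = 1 := by
      have := pow_orderOf_eq_one (p k)
      rw [hord] at this
      rw [← this]
      simp only [pow_succ, pow_zero, one_mul, mul_assoc]
    have hs := RepJ.scal h2 hω hF4 (RepJ.one (F := F) (ω := ω))
      (hcube ▸ RepJ.mul h2 hω (hp k hk) (RepJ.mul h2 hω (hp k hk) (hp k hk)))
    have hc := P3_all k hk
    unfold chkP3 at hc
    rw [Bool.or_eq_true, Bool.or_eq_true] at hc
    rcases hc with (hc | hc) | hc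
    · rw [hs] at hc
      exact absurd hc (by decide)
    · exfalso
      rw [beq_true hc, hp0, orderOf_one] at hord
      exact absurd hord (by norm_num)
    · rcases Bool.eq_false_or_eq_true (Nat.beq (Nat.shiftRight (p3w k) 30) 1) with hb1 | hb1
      · rw [hb1, cond_true] at hc
        simp only [Bool.and_eq_true] at hc
        obtain ⟨⟨c1, c2⟩, c3⟩ := hc
        obtain ⟨g, hg, hR⟩ := J3.exists_of_sift h2 hω _ _ _ (blt_true c1) (blt_true c2) rfl
        have hz : RepJ ω (QuotientGroup.mk ⟨g, hg⟩ : J3 F ω) _ := ⟨⟨g, hg⟩, hR, rfl⟩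
        unfold cjB at c3
        have e := M9.eq_of_beq c3
        rw [← apB_eq] at e
        exact Or.inl (RepJ.isConj h2 hω hz (hp k hk) hb e)
      · rw [hb1, cond_false] at hc
        rcases Bool.eq_false_or_eq_true (Nat.beq (Nat.shiftRight (p3w k) 30) 2) with hb2 | hb2
        · rw [hb2, cond_true] at hc
          simp only [Bool.and_eq_true] at hc
          obtain ⟨c1, c2⟩ := hc
          exact Or.inr ⟨_, blt_true c1,
            RepJ.eq (RepJ.congr (RepJ.mul h2 hω (hp k hk) (hxR _ (blt_true c1)))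
              (M9.eq_of_beq c2)) (RepJ.mul h2 hω (hxR _ (blt_true c1)) (hp k hk))⟩
        · rw [hb2, cond_false] at hc
          exact absurd hc (by decide)
  · -- orbit certificates
    intro i hi
    have hc := chkOR_all i hi
    unfold chkOR at hc
    simp only [Bool.and_eq_true] at hc
    obtain ⟨⟨c1, c2⟩, c3⟩ := hc
    refine ⟨okk i, blt_true c1, omm i, blt_true c2, ?_⟩
    have e : p (okk i) * x i = x (repI (omm i)) * p (okk i) :=
      RepJ.eq (RepJ.congr (RepJ.mul h2 hω (hp _ (blt_true c1)) (hxR i hi)) (M9.eq_of_beq c3))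
        (RepJ.mul h2 hω (hxR _ (hrep _ (blt_true c2))) (hp _ (blt_true c1)))
    rw [e, mul_inv_cancel_right]
  · -- no representative commutes with b
    intro m hm hcomm
    have hc := RP_all m hm
    unfold chkRP at hc
    simp only [Bool.and_eq_true] at hc
    obtain ⟨⟨-, c2⟩, -⟩ := hc
    have hxm := hxR _ (hrep m hm)
    have hs := RepJ.scal h2 hω hF4 (RepJ.mul h2 hω hxm hb)
      (hcomm ▸ RepJ.congr (RepJ.mul h2 hω hb hxm) (apB_eq _))
    rw [hs] at c2
    exact absurd c2 (by decide)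
  · -- the fingerprint
    intro m hm h17 h19
    have hc := RP_all m hm
    unfold chkRP at hc
    simp only [Bool.and_eq_true] at hc
    obtain ⟨-, c3⟩ := hc
    have hxm := hxR _ (hrep m hm)
    have hs17 := RepJ.scal h2 hω hF4 (RepJ.one (F := F) (ω := ω))
      (h17 ▸ RepJ.pow17 h2 hω (RepJ.mul h2 hω hxm hb))
    have hs19 := RepJ.scal h2 hω hF4 (RepJ.one (F := F) (ω := ω))
      (h19 ▸ RepJ.pow19 h2 hω (RepJ.w3 h2 hω hxm))
    rw [Bool.or_eq_true, Bool.or_eq_true, Bool.or_eq_true] at c3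
    rcases c3 with ((c3 | c3) | c3) | c3
    · rw [hs17] at c3
      exact absurd c3 (by decide)
    · rw [hs19] at c3
      exact absurd c3 (by decide)
    · left
      rw [beq_true c3]
      exact RepJ.eq (RepJ.congr (hxR _ (hrep 0 (by norm_num))) (M9.eq_of_beq rep0_a)) ht
    · right
      rw [beq_true c3]
  · exact RepJ.eq (RepJ.congr (RepJ.pow17 h2 hω (RepJ.mul h2 hω ht hb)) (M9.eq_of_beq ab17))
      RepJ.one
  · exact RepJ.eq (RepJ.congr (RepJ.pow19 h2 hω (RepJ.w3 h2 hω ht)) (M9.eq_of_beq w19)) RepJ.one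

end

end Cfsg.Agent.Lib.Helper37.Out
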