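import Cfsg.Agent.Lib.Helper37.Out.Glue

/-!
`|Out(J₃)| = 2`: assembly.  At most two by the rigidity chase on the pair `(t, b)`; at least two
because `g ↦ P g^(2) P⁻¹` (entrywise Frobenius, then conjugation) stabilises `3·J₃`, inverts its
centre, and the central element `ζ` is a commutator.
-/

set_option autoImplicit false

namespace Cfsg.Agent.Lib.Helper37.Out

open Cfsg.Spor Subgroup Cfsg.Agent.Lib.Helper37.J3 Cfsg.Agent.Lib.Helper37.Inv

section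

variable {F : Type*} [Field F] {ω : F} (h2 : (2 : F) = 0) (hω : ω * ω = ω + 1)

include h2 hω in
/-- a non-inner automorphism of `J₃` -/
theorem outer_exists : ∃ ψ : MulAut (J3 F ω), ψ ∉ Cfsg.Inn (J3 F ω) := by
  obtain ⟨Fr, hFrinj, hFr⟩ :=
    Cfsg.Agent.Lib.Helper85.J3OFR.exists_frobenius (F := F) (ω := ω) h2 hω
  let pm : GL F9 F := mkGL ω h2 hω PMc PMi (M9.eq_of_beq pm_inv1) (M9.eq_of_beq pm_inv2)
  have hpm : J3.Rep ω pm PMc := mkGL_rep h2 hω _ _ _ _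
  let Φ : GL F9 F →* GL F9 F := (MulAut.conj pm).toMonoidHom.comp Fr
  have hΦinj : Function.Injective Φ := (MulAut.conj pm).injective.comp hFrinj
  have hΦR : ∀ (g : GL F9 F) (M Y : M9), J3.Rep ω g M → mm PMc (frC M) = mm Y PMc →
      J3.Rep ω (Φ g) Y := fun g M Y hg h => rep_conj h2 hω hpm (hFr g M hg) h
  haveI : Finite (threeJ3 F ω) :=
    Nat.finite_of_card_ne_zero (by rw [card_threeJ3 h2 hω]; norm_num)
  have hzR : J3.Rep ω (zetaG h2 hω) OMcode := mkGL_rep h2 hω _ _ _ _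
  have ha : Φ (aG h2 hω) ∈ threeJ3 F ω := by
    have hR := hΦR _ _ _ (aG_rep h2 hω) (M9.eq_of_beq pm_a)
    obtain ⟨g, hg, hgR⟩ := class_tree h2 hω (repI 8) (blt_true r2_lt)
    rw [Rep.unique hR hgR, threeJ3_eq h2 hω]
    have ha_mem : aG h2 hω ∈ H1 h2 hω := subset_closure (by simp)
    exact mul_mem (mul_mem hg ha_mem) (inv_mem hg)
  have hb : Φ (bG h2 hω) ∈ threeJ3 F ω := by
    have hR := hΦR _ _ _ (bG_rep h2 hω) (M9.eq_of_beq pm_b)
    have hR' : J3.Rep ω (zetaG h2 hω * zetaG h2 hω * bG h2 hω) (mm (mm OMcode OMcode) Bcode) :=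
      Rep.mul h2 hω (Rep.mul h2 hω hzR hzR) (bG_rep h2 hω)
    rw [Rep.unique hR hR']
    exact mul_mem (mul_mem (zetaG_mem h2 hω) (zetaG_mem h2 hω)) (bG_mem h2 hω)
  obtain ⟨φ, hφ⟩ := Cfsg.Agent.Lib.Helper5.J3ORES.exists_equiv_of_closure Φ hΦinj
    (aG h2 hω) (bG h2 hω) (threeJ3 F ω) (threeJ3_eq h2 hω) ha hb
  have hs := (PA_spec 1 (by norm_num)).1
  unfold sftOK at hs
  simp only [Bool.and_eq_true] at hs
  obtain ⟨⟨s1, s2⟩, s3⟩ := hs
  obtain ⟨g0, hg0, hg0R⟩ :=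
    J3.exists_of_sift h2 hω _ _ _ (blt_true s2) (blt_true s3) (M9.eq_of_beq s1)
  refine Cfsg.Agent.Lib.Helper86.J3OOUT.exists_outer_of_center_moved φ
    ⟨zetaG h2 hω, zetaG_mem h2 hω⟩ ⟨g0, hg0⟩ ⟨bG h2 hω, bG_mem h2 hω⟩ ?_ ?_ ?_
  · exact (center_iff h2 hω _).mpr ⟨ω, zetaG_val h2 hω⟩
  · apply Subtype.ext
    show g0 * bG h2 hω * g0⁻¹ = zetaG h2 hω * bG h2 hω
    exact Rep.unique (rep_conj h2 hω hg0R (bG_rep h2 hω) (M9.eq_of_beq zcomm))
      (Rep.mul h2 hω hzR (bG_rep h2 hω))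
  · intro h
    have h' : Φ (zetaG h2 hω) = zetaG h2 hω := by
      have := hφ ⟨zetaG h2 hω, zetaG_mem h2 hω⟩
      rw [← this]
      exact congrArg Subtype.val h
    have hR := hΦR _ _ _ hzR (M9.eq_of_beq pm_z)
    rw [h'] at hR
    have hk := keyM_eq_of h2 hω one_ne_zero (hR.symm.trans hzR)
    have hne := om_ne
    rw [hk, Nat.beq_refl] at hne
    exact Bool.noConfusion hne

include h2 hω in
/-- the outer automorphism group of `J₃` has order two -/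
theorem card_out (hF4 : ∀ c : F, c = 0 ∨ c = 1 ∨ c = ω ∨ c = ω + 1) :
    Nat.card (Cfsg.Out (J3 F ω)) = 2 := by
  have hJ := card_J3 h2 hω hF4
  have : Finite (J3 F ω) := Nat.finite_of_card_ne_zero (by rw [hJ]; norm_num)
  obtain ⟨x, p, S, hS, hScard, hinv, hx2, hpb, hp3, horb, hnc, hfp, h17, h19⟩ :=
    out_data h2 hω hF4
  haveI : Fact (Nat.Prime 3) := ⟨Nat.prime_three⟩
  have hidx : ¬ 3 ∣ S.index := by
    have hi := Subgroup.card_mul_index S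
    rw [hScard, hJ] at hi
    omega
  have hsyl : ∀ y : J3 F ω, orderOf y = 3 → ∃ g : J3 F ω, g * y * g⁻¹ ∈ S := fun y hy =>
    Cfsg.Agent.Lib.Helper88.J3OSYL.exists_conj_mem_of_orderOf_prime 3 S hidx y hy
  have hrig := Cfsg.Agent.Lib.Helper65.J3OCHASE.rigid_of_tables (tJ h2 hω) (bJ h2 hω) x p repI
    (repI 8) S hS hsyl (bJ_order h2 hω hF4) h17 h19 hinv hx2 (tJ_order h2 hω hF4) hpb hp3 horb
    hnc hfp
  exact Cfsg.Agent.Lib.Helper17.J3ORIG.card_out_eq_two (tJ h2 hω) (bJ h2 hω) (x (repI 8))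
    (gen_J h2 hω hF4) hrig (outer_exists h2 hω)

end

end Cfsg.Agent.Lib.Helper37.Out
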